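import Mathlib
import Cfsg.Agent.Classical.UnitMono.Basic

/-!
Overgroups of the special monomial unitary group: reflections normalising the group, and elements
fixing an axis.
-/

set_option autoImplicit false
set_option linter.unusedSectionVars false

namespace CfsgLib.SUSix91

open Matrix CfsgLib.UnitMono CfsgLib.TransvGL CfsgLib.MonoBasics CfsgLib.UnitCentres CfsgLib.PseudoRefl
  CfsgLib.CircleSums

variable {ι : Type} [Fintype ι] [DecidableEq ι] {F : Type*} [Field F] [Fintype F]
variable {q : ℕ} {σ : F ≃+* F} {M : Subgroup (GL ι F)}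

local notation "ax" i:max => (Pi.single i (1 : F) : ι → F)

/-- Scalar matrices. -/
def scal (c : Fˣ) : GL ι F := dg fun _ => c

theorem scal_mulVec (c : Fˣ) (x : ι → F) : ((scal c : GL ι F) : Matrix ι ι F) *ᵥ x = (c : F) • x :=
  funext fun i => by rw [scal, dg_mulVec]; rfl

theorem scal_comm (c : Fˣ) (g : GL ι F) : (scal c : GL ι F) * g = g * scal c :=
  ext_mulVec fun x => by
    rw [Units.val_mul, Units.val_mul, ← mulVec_mulVec, ← mulVec_mulVec, scal_mulVec, scal_mulVec, mulVec_smul]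

theorem scal_mul (c d : Fˣ) : (scal c * scal d : GL ι F) = scal (c * d) :=
  ext_mulVec fun x => by
    rw [Units.val_mul, ← mulVec_mulVec, scal_mulVec, scal_mulVec, scal_mulVec, smul_smul, Units.val_mul]

theorem scal_one : (scal 1 : GL ι F) = 1 :=
  ext_mulVec fun x => by rw [scal_mulVec, Units.val_one, one_smul, Units.val_one, one_mulVec]

/-- The isometries which are scalar multiples of elements of the group. -/
def kz (σ : F ≃+* F) (M : Subgroup (GL ι F)) : Subgroup (GL ι F) where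
  carrier := {g | Iso (sf σ) g ∧ ∃ c : Fˣ, scal c * g ∈ M}
  one_mem' := ⟨fun x y => by simp, 1, by rw [scal_one, mul_one]; exact M.one_mem⟩
  mul_mem' := by
    rintro g h ⟨hg, c, hc⟩ ⟨hh, d, hd⟩
    refine ⟨hg.mul hh, c * d, ?_⟩
    have := M.mul_mem hc hd
    rwa [show scal c * g * (scal d * h) = scal (c * d) * (g * h) by
      rw [← mul_assoc, mul_assoc (scal c) g, ← scal_comm, ← mul_assoc, scal_mul, mul_assoc]] at this
  inv_mem' := by
    rintro g ⟨hg, c, hc⟩
    refine ⟨fun x y => hg.inv x y, c⁻¹, ?_⟩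
    have h1 := M.inv_mem hc
    have h2 : (scal c : GL ι F)⁻¹ = scal c⁻¹ :=
      inv_eq_of_mul_eq_one_right (by rw [scal_mul, mul_inv_cancel, scal_one])
    rwa [_root_.mul_inv_rev, h2, ← scal_comm] at h1

/-- A non-monomial element of the group fixing an axis. -/
def FixAx (M : Subgroup (GL ι F)) : Prop :=
  ∃ h ∈ M, ¬ IsMono h ∧ ∃ a : ι, ∃ c : F, (h : Matrix ι ι F) *ᵥ (Pi.single a (1 : F)) = c • Pi.single a (1 : F)

variable (hO : Over q σ M)
include hO

theorem mem_kz {g : GL ι F} (hg : g ∈ M) : g ∈ kz σ M :=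
  ⟨hO.iso g hg, 1, by rw [scal_one, one_mul]; exact hg⟩

theorem mem_of_kz [Nonempty ι] {g : GL ι F} (hg : g ∈ kz σ M) (hd : (g : Matrix ι ι F).det = 1) : g ∈ M := by
  obtain ⟨hgi, c, hc⟩ := hg
  obtain ⟨a⟩ := ‹Nonempty ι›
  have hsc : Iso (sf σ) (scal c : GL ι F) := by
    have := (hO.iso _ hc).mul (fun x y => hgi.inv x y : Iso (sf σ) g⁻¹)
    rwa [mul_inv_cancel_right] at this
  have hcc : Cir σ (c : F) := by
    have := hsc (ax a) (ax a)
    rw [scal_mulVec, hO.std.isUnitary.smul_left, smul_right hO.std.isUnitary, sf_ax_self, mul_one] at this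
    exact this
  have hdet : (c : F) ^ Fintype.card ι = 1 := by
    have := PseudoRefl.mem_specialLinear_iff.1 (hO.special hc)
    rw [Units.val_mul, det_mul, hd, mul_one, show ((scal c : GL ι F) : Matrix ι ι F) =
      Matrix.diagonal fun _ => (c : F) from rfl, det_diagonal, Finset.prod_const, Finset.card_univ] at this
    exact this
  have h1 : (scal c : GL ι F) ∈ M := hO.dg_mem (fun _ => hcc) (Units.ext (by
    rw [Finset.prod_const, Finset.card_univ, Units.val_pow_eq_pow_val, hdet, Units.val_one]))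
  have := M.mul_mem (M.inv_mem h1) hc
  rwa [inv_mul_cancel_left] at this

theorem refl_ax_mem {η : Fˣ} (hη : Cir σ (η : F)) (a : ι) :
    uRefl hO.std (sf_ax_self a) (η ^ Fintype.card ι) ∈ kz σ M := by
  have hc : Cir σ ((η ^ Fintype.card ι : Fˣ) : F) := by
    rw [Units.val_pow_eq_pow_val, ← zpow_natCast]; exact hη.zpow _
  refine ⟨uRefl_iso hO.std _ hc, η⁻¹, ?_⟩
  rw [uRefl_ax_eq_dg, scal, show ∀ f₁ f₂ : ι → Fˣ, dg f₁ * dg f₂ = dg fun i => f₁ i * f₂ i from
    fun f₁ f₂ => ext_mulVec fun x => funext fun i => by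
      rw [Units.val_mul, ← mulVec_mulVec, dg_mulVec, dg_mulVec, dg_mulVec, Units.val_mul]; ring]
  refine hO.dg_mem (fun i => ?_) ?_
  · rw [Units.val_mul, Units.val_inv_eq_inv_val]
    refine hη.inv.mul ?_
    split_ifs
    exacts [hc, cir_one σ]
  · rw [Finset.prod_mul_distrib, Finset.prod_const, Finset.card_univ, Finset.prod_ite_eq' Finset.univ a,
      if_pos (Finset.mem_univ a), inv_pow, inv_mul_cancel]

theorem refl_mem {η : Fˣ} (hη : Cir σ (η : F)) {g : GL ι F} (hg : g ∈ kz σ M) {u : ι → F} {a : ι}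
    (hgu : (g : Matrix ι ι F) *ᵥ ax a = u) (hu : sf σ u u = 1) :
    uRefl hO.std hu (η ^ Fintype.card ι) ∈ kz σ M := by
  subst hgu
  have := (kz σ M).mul_mem ((kz σ M).mul_mem hg (refl_ax_mem hO hη a)) ((kz σ M).inv_mem hg)
  rwa [conj_uRefl hO.std hg.1] at this

omit hO in
theorem supp_nonempty (hS : Std q σ) {u : ι → F} (hu : sf σ u u = 1) : ∃ i, u i ≠ 0 := by
  by_contra hc
  push Not at hc
  simp [sf, hc] at hu

/-- A normalising reflection in a vector with a zero coordinate gives an element fixing an axis. -/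
theorem fix_of_refl {u : ι → F} (hu : sf σ u u = 1) {δ : Fˣ} (hδ1 : (δ : F) ≠ 1)
    (hR : uRefl hO.std hu δ ∈ kz σ M) (hRx : ∀ a, uRefl hO.std (sf_ax_self a) δ ∈ kz σ M)
    {a i j : ι} (ha : u a = 0) (hij : i ≠ j) (hi : u i ≠ 0) (hj : u j ≠ 0)
    (hbig : (δ : F) ≠ -1 ∨ ∃ l, l ≠ i ∧ l ≠ j ∧ u l ≠ 0) : FixAx M := by
  haveI : Nonempty ι := ⟨a⟩
  have hf := hO.std.isUnitary (ι := ι)
  set h := uRefl hO.std hu δ * (uRefl hO.std (sf_ax_self a) δ)⁻¹ with hh
  have hhM : h ∈ M := by
    refine mem_of_kz hO ((kz σ M).mul_mem hR ((kz σ M).inv_mem (hRx a))) ?_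
    rw [hh, Units.val_mul, det_mul, Matrix.coe_units_inv, Matrix.det_nonsing_inv, det_uRefl, det_uRefl,
      Ring.inverse_eq_inv', mul_inv_cancel₀ δ.ne_zero]
  have hinv : ∀ x, (((uRefl hO.std (sf_ax_self (σ := σ) a) δ)⁻¹ : GL ι F) : Matrix ι ι F) *ᵥ x =
      x + (((δ : F)⁻¹ - 1) * x a) • ax a := fun x => by
    rw [uRefl_ax_eq_dg, dg_inv]
    funext l
    rw [dg_mulVec]
    by_cases hl : l = a
    · subst hl; simp; ring
    · simp [hl]
  have hcol : ∀ l, l ≠ a → (h : Matrix ι ι F) *ᵥ ax l = ax l + (((δ : F) - 1) * σ (u l)) • u := by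
    intro l hl
    rw [hh, Units.val_mul, ← mulVec_mulVec, hinv, Pi.single_eq_of_ne (Ne.symm hl), mul_zero, zero_smul, add_zero,
      uRefl_mulVec, sf_ax_left]
  refine ⟨h, hhM, fun hm => ?_, a, (δ : F)⁻¹, ?_⟩
  · have hia : i ≠ a := fun e => hi (e ▸ ha)
    have hja : j ≠ a := fun e => hj (e ▸ ha)
    have key : ∀ l l', l ≠ l' → l ≠ a → u l ≠ 0 → u l' ≠ 0 →
        1 + ((δ : F) - 1) * (u l * σ (u l)) = 0 ∧ ∀ p, p ≠ l → p ≠ l' → u p = 0 := by
      intro l l' hll hla hl hl'
      obtain ⟨p, hp⟩ := hm l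
      rw [hcol l hla, mem_axis_iff] at hp
      have hne : ((δ : F) - 1) * σ (u l) ≠ 0 := mul_ne_zero (sub_ne_zero.2 hδ1) (by simpa using hl)
      have hpl : p = l' := by
        by_contra hpl
        have := hp l' (Ne.symm hpl)
        simp [Ne.symm hll, sub_ne_zero.2 hδ1, hl, hl'] at this
      subst hpl
      refine ⟨?_, fun r hr hr' => ?_⟩
      · have := hp l hll
        simp at this
        have h2 : (1 + ((δ : F) - 1) * (u l * σ (u l))) = 0 := by linear_combination this
        exact h2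
      · have := hp r hr'
        simp [hr, sub_ne_zero.2 hδ1, hl] at this
        exact this
    obtain ⟨e1, h0⟩ := key i j hij hia hi hj
    obtain ⟨e2, -⟩ := key j i (Ne.symm hij) hja hj hi
    rcases hbig with hne | ⟨l, hli, hlj, hl⟩
    · refine hne ?_
      have hs : u i * σ (u i) + u j * σ (u j) = 1 := by
        rw [← hu, sf, Fintype.sum_eq_add i j hij fun r hr => by rw [h0 r hr.1 hr.2, zero_mul]]
      linear_combination e1 + e2 - ((δ : F) - 1) * hs
    · exact hl (h0 l hli hlj)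
  · rw [hh, Units.val_mul, ← mulVec_mulVec, hinv, Pi.single_eq_same, mul_one, mulVec_add, mulVec_smul,
      uRefl_mulVec, sf_ax_left, ha, map_zero, mul_zero, zero_smul, add_zero]
    module

omit hO in
theorem three_absurd {r r' v1 v2 v3 : ι → F} (h1 : v1 ∈ Submodule.span F {r, r'})
    (h2 : v2 ∈ Submodule.span F {r, r'}) (h3 : v3 ∈ Submodule.span F {r, r'}) (hne : v1 ≠ 0) {p2 p3 : ι}
    (a : v2 p2 ≠ 0) (a' : v1 p2 = 0) (b : v3 p3 ≠ 0) (b' : v1 p3 = 0) (b'' : v2 p3 = 0) : False := by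
  classical
  have hind : LinearIndependent F ![v1, v2, v3] := by
    rw [Fintype.linearIndependent_iff]
    intro c hc
    rw [Fin.sum_univ_three] at hc
    simp only [cons_val_zero, cons_val_one, cons_val_two, tail_cons, head_cons] at hc
    have e3 := congrFun hc p3
    simp [b', b'', b] at e3
    have e2 := congrFun hc p2
    simp [e3, a', a] at e2
    rw [e2, e3, zero_smul, zero_smul, add_zero, add_zero, smul_eq_zero] at hc
    have e1 := hc.resolve_right hne
    intro l
    fin_cases l <;> assumption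
  have hle : Submodule.span F (Set.range ![v1, v2, v3]) ≤ Submodule.span F {r, r'} :=
    Submodule.span_le.2 (by rintro _ ⟨l, rfl⟩; fin_cases l <;> assumption)
  have h := Submodule.finrank_mono hle
  rw [finrank_span_eq_card hind, Fintype.card_fin] at h
  have : Module.finrank F ↥(Submodule.span F ({r, r'} : Set (ι → F))) ≤ 2 :=
    (finrank_span_le_card _).trans (by simp [Finset.card_le_two])
  omega

omit hO in
/-- A monomial matrix moving everything inside a plane is a three-cycle or has monomial square one. -/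
theorem mono_plane {x : GL ι F} (hx : IsMono x) {r r' : ι → F}
    (hW : ∀ y, (x : Matrix ι ι F) *ᵥ y - y ∈ Submodule.span F {r, r'}) :
    ((∀ i, ((x * x : GL ι F) : Matrix ι ι F) *ᵥ ax i ∈ Submodule.span F {ax i}) ∨
      x ^ 3 = 1) ∧
      ∃ T : Finset ι, T.card ≤ 4 ∧ ∀ y, ∀ p ∉ T, ((x : Matrix ι ι F) *ᵥ y) p = y p := by
  classical
  choose π hπ using hx
  have hinj := mono_index_injective hπ
  choose c hc using fun i => Submodule.mem_span_singleton.1 (hπ i)
  set v : ι → ι → F := fun i => (x : Matrix ι ι F) *ᵥ ax i - ax i with hv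
  have hvW : ∀ i, v i ∈ Submodule.span F {r, r'} := fun i => hW _
  have hvs : ∀ i p, p ≠ i → p ≠ π i → v i p = 0 := fun i p h1 h2 => by simp [hv, ← hc, h1, h2]
  have hc0 : ∀ i, c i ≠ 0 := fun i e => mulVec_ne_zero x (ax_ne_zero i) (by rw [← hc, e, zero_smul])
  have hvp : ∀ i, π i ≠ i → v i (π i) ≠ 0 := fun i h => by simp [hv, ← hc, h, hc0]
  have hvi : ∀ i, π i ≠ i → v i i ≠ 0 := fun i h => by simp [hv, ← hc, Ne.symm h]
  have happ : ∀ y p, ((x : Matrix ι ι F) *ᵥ y) p = y p + ∑ i, y i * v i p := by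
    intro y p
    conv_lhs => rw [← Finset.univ_sum_single y, mulVec_sum]
    conv_rhs => arg 1; rw [← Finset.univ_sum_single y]
    rw [Finset.sum_apply, Finset.sum_apply, ← Finset.sum_add_distrib]
    refine Finset.sum_congr rfl fun i _ => ?_
    rw [show Pi.single i (y i) = y i • ax i by simp [← Pi.single_smul'], mulVec_smul, hv]
    simp only [Pi.smul_apply, Pi.sub_apply, smul_eq_mul]
    ring
  have hfix : ∀ (T : Finset ι), (∀ i p, p ∉ T → v i p = 0) →
      ∀ y, ∀ p ∉ T, ((x : Matrix ι ι F) *ᵥ y) p = y p := fun T hT y p hp => by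
    rw [happ, Finset.sum_eq_zero fun i _ => by rw [hT i p hp, mul_zero], add_zero]
  by_cases hch : ∃ i, π (π i) ≠ i
  · obtain ⟨i, hi⟩ := hch
    set j := π i with hj
    set l := π j with hl
    have hij : j ≠ i := fun e => hi (by rw [hl, e, ← hj]; exact e)
    have hjl : l ≠ j := fun e => hij (hinj (by rw [← hl, e]))
    have hil : l ≠ i := hi
    have hvne : v i ≠ 0 := fun e => hvi i hij (by rw [e]; rfl)
    have hjl' : v j l ≠ 0 := hvp j hjl
    have hil' : v i l = 0 := hvs i l hil hjl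
    have hπl : π l = i := by
      by_contra hne
      have h1 : π l ≠ l := fun e => hjl (hinj (by rw [e]))
      have h2 : π l ≠ j := fun e => hil (hinj (by rw [e]))
      exact three_absurd (hvW i) (hvW j) (hvW l) hvne hjl' hil' (hvp l h1)
        (hvs i _ hne h2) (hvs j _ h2 h1)
    have hothers : ∀ p, p ≠ i → p ≠ j → p ≠ l → v p = 0 := by
      intro p h1 h2 h3
      by_contra hne
      obtain ⟨s, hs⟩ := Function.ne_iff.1 hne
      have hs' : s = p ∨ s = π p := by
        by_contra hcon; push Not at hcon; exact hs (hvs p s hcon.1 hcon.2)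
      have hnot : s ≠ i ∧ s ≠ j ∧ s ≠ l := by
        rcases hs' with rfl | rfl
        · exact ⟨h1, h2, h3⟩
        · exact ⟨fun e => h3 (hinj (e.trans hπl.symm)), fun e => h1 (hinj e), fun e => h2 (hinj e)⟩
      exact three_absurd (hvW i) (hvW j) (hvW p) hvne hjl' hil' hs (hvs i _ hnot.1 hnot.2.1)
        (hvs j _ hnot.2.1 hnot.2.2)
    have hfix1 : ∀ p, p ≠ i → p ≠ j → p ≠ l → (x : Matrix ι ι F) *ᵥ ax p = ax p := fun p h1 h2 h3 =>
      sub_eq_zero.1 (hothers p h1 h2 h3)
    set C := c i * c j * c l with hC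
    have hx3 : ∀ p, ((x ^ 3 : GL ι F) : Matrix ι ι F) *ᵥ ax p =
        (if p = i ∨ p = j ∨ p = l then C else 1) • ax p := by
      intro p
      rw [pow_succ, pow_succ, pow_one, Units.val_mul, Units.val_mul, ← mulVec_mulVec, ← mulVec_mulVec]
      by_cases h : p = i ∨ p = j ∨ p = l
      · rw [if_pos h]
        rcases h with rfl | rfl | rfl
        · rw [← hc, mulVec_smul, ← hc, mulVec_smul, mulVec_smul, ← hc, ← hj, ← hl, hπl]; module
        · rw [← hc, mulVec_smul, ← hc, mulVec_smul, mulVec_smul, ← hl, ← hc, hπl, ← hj]; module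
        · rw [← hc, mulVec_smul, ← hc, mulVec_smul, mulVec_smul, hπl, ← hc, ← hj, ← hl]; module
      · push Not at h
        rw [if_neg (by simp [h.1, h.2.1, h.2.2]), one_smul, hfix1 p h.1 h.2.1 h.2.2, hfix1 p h.1 h.2.1 h.2.2,
          hfix1 p h.1 h.2.1 h.2.2]
    have hC1 : C = 1 := by
      by_contra hne
      have hd : ∀ y, ((x ^ 3 : GL ι F) : Matrix ι ι F) *ᵥ y - y ∈ Submodule.span F {r, r'} := by
        intro y
        rw [pow_succ, pow_succ, pow_one, Units.val_mul, Units.val_mul, ← mulVec_mulVec, ← mulVec_mulVec]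
        set y1 := (x : Matrix ι ι F) *ᵥ y
        set y2 := (x : Matrix ι ι F) *ᵥ y1
        rw [show (x : Matrix ι ι F) *ᵥ y2 - y =
          ((x : Matrix ι ι F) *ᵥ y2 - y2) + (y2 - y1) + (y1 - y) by abel]
        exact Submodule.add_mem _ (Submodule.add_mem _ (hW _) (hW _)) (hW _)
      have he : ∀ p, (p = i ∨ p = j ∨ p = l) → ax p ∈ Submodule.span F {r, r'} := fun p hp => by
        have := hd (ax p)
        rw [hx3, if_pos hp] at this
        have h2 : (C - 1) • ax p ∈ Submodule.span F {r, r'} := by rw [sub_smul, one_smul]; exact this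
        exact (Submodule.smul_mem_iff _ (sub_ne_zero.2 hne)).1 h2
      exact three_absurd (he i (Or.inl rfl)) (he j (Or.inr (Or.inl rfl))) (he l (Or.inr (Or.inr rfl)))
        (ax_ne_zero i) (p2 := j) (p3 := l) (by simp) (by simp [hij]) (by simp) (by simp [hil]) (by simp [hjl])
    refine ⟨Or.inr (ext_mulVec fun y => ?_), {i, j, l}, Finset.card_le_three.trans (by norm_num),
      hfix _ fun p s hs => ?_⟩
    · rw [Units.val_one, one_mulVec, ← Finset.univ_sum_single y, mulVec_sum]
      refine Finset.sum_congr rfl fun p _ => ?_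
      rw [show Pi.single p (y p) = y p • ax p by simp [← Pi.single_smul'], mulVec_smul, hx3]
      split_ifs <;> simp [hC1]
    · simp only [Finset.mem_insert, Finset.mem_singleton, not_or] at hs
      by_cases hp : p = i ∨ p = j ∨ p = l
      · rcases hp with rfl | rfl | rfl
        · exact hvs _ _ hs.1 hs.2.1
        · exact hvs _ _ hs.2.1 hs.2.2
        · exact hvs _ _ hs.2.2 (hπl.symm ▸ hs.1)
      · push Not at hp
        rw [hothers p hp.1 hp.2.1 hp.2.2]; rfl
  · push Not at hch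
    refine ⟨Or.inl fun i => ?_, ?_⟩
    · rw [Units.val_mul, ← mulVec_mulVec, ← hc, mulVec_smul, ← hc, hch]
      exact Submodule.smul_mem _ _ (Submodule.smul_mem _ _ (Submodule.mem_span_singleton_self _))
    · set Mv := Finset.univ.filter fun i => v i ≠ 0
      have hmv : ∀ i, v i ≠ 0 → ∃ s, (s = i ∨ s = π i) ∧ v i s ≠ 0 := fun i hi => by
        obtain ⟨s, hs⟩ := Function.ne_iff.1 hi
        refine ⟨s, ?_, hs⟩
        by_contra hcon; push Not at hcon; exact hs (hvs i s hcon.1 hcon.2)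
      have hdis : ∀ a b s, b ≠ a → b ≠ π a → (s = b ∨ s = π b) → s ≠ a ∧ s ≠ π a := by
        intro a b s h1 h2 hs
        rcases hs with rfl | rfl
        · exact ⟨h1, h2⟩
        · exact ⟨fun e => h2 (by rw [← e, hch]), fun e => h1 (hinj e)⟩
      by_cases hbig : ∃ a b d, v a ≠ 0 ∧ v b ≠ 0 ∧ v d ≠ 0 ∧ b ≠ a ∧ b ≠ π a ∧ d ≠ a ∧ d ≠ π a ∧ d ≠ b ∧ d ≠ π b
      · obtain ⟨a, b, d, ha, hb, hd, h1, h2, h3, h4, h5, h6⟩ := hbig
        obtain ⟨s, hs, hs0⟩ := hmv b hb
        obtain ⟨t, ht, ht0⟩ := hmv d hd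
        have e1 := hdis a b s h1 h2 hs
        have e2 := hdis a d t h3 h4 ht
        have e3 := hdis b d t h5 h6 ht
        exact (three_absurd (hvW a) (hvW b) (hvW d) ha hs0 (hvs a s e1.1 e1.2) ht0 (hvs a t e2.1 e2.2)
          (hvs b t e3.1 e3.2)).elim
      push Not at hbig
      by_cases h1 : ∃ a, v a ≠ 0
      swap
      · push Not at h1
        exact ⟨∅, by simp, hfix _ fun i p _ => by rw [h1]; rfl⟩
      obtain ⟨a, ha⟩ := h1
      by_cases h2 : ∃ b, v b ≠ 0 ∧ b ≠ a ∧ b ≠ π a
      · obtain ⟨b, hb, hba, hba'⟩ := h2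
        refine ⟨{a, π a, b, π b}, Finset.card_le_four, hfix _ fun p s hs => ?_⟩
        simp only [Finset.mem_insert, Finset.mem_singleton, not_or] at hs
        by_cases hp : v p = 0
        · rw [hp]; rfl
        have : p = a ∨ p = π a ∨ p = b ∨ p = π b := by
          by_contra hcon; push Not at hcon
          exact hcon.2.2.2 (hbig a b p ha hb hp hba hba' hcon.1 hcon.2.1 hcon.2.2.1)
        rcases this with rfl | rfl | rfl | rfl
        · exact hvs _ _ hs.1 hs.2.1
        · exact hvs _ _ hs.2.1 (by rw [hch]; exact hs.1)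
        · exact hvs _ _ hs.2.2.1 hs.2.2.2
        · exact hvs _ _ hs.2.2.2 (by rw [hch]; exact hs.2.2.1)
      · push Not at h2
        refine ⟨{a, π a}, Finset.card_le_two.trans (by norm_num), hfix _ fun p s hs => ?_⟩
        simp only [Finset.mem_insert, Finset.mem_singleton, not_or] at hs
        by_cases hp : v p = 0
        · rw [hp]; rfl
        have : p = a ∨ p = π a := by
          by_contra hcon; push Not at hcon; exact hcon.2 (h2 p hp hcon.1)
        rcases this with rfl | rfl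
        · exact hvs _ _ hs.1 hs.2
        · exact hvs _ _ hs.2 (by rw [hch]; exact hs.1)

/-- An element mapping an axis to an axis gives one fixing an axis. -/
theorem fix_of_axis {g : GL ι F} (hg : g ∈ M) (hgm : ¬ IsMono g) {a b : ι}
    (hab : (g : Matrix ι ι F) *ᵥ ax a ∈ Submodule.span F {ax b}) : FixAx M := by
  obtain ⟨p, hp, s, -, hpj⟩ := hO.exists_perm (Equiv.swap a b) a
  have hpm : IsMono p := fun j => ⟨Equiv.swap a b j, Submodule.mem_span_singleton.2 ⟨_, (hpj j).symm⟩⟩
  obtain ⟨c, hc⟩ := Submodule.mem_span_singleton.1 hab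
  refine ⟨p * g, M.mul_mem hp hg, fun hm => hgm ?_, a, c * (if b = a then (s : F) else 1), ?_⟩
  · have := hpm.inv.mul hm
    rwa [inv_mul_cancel_left] at this
  · rw [Units.val_mul, ← mulVec_mulVec, ← hc, mulVec_smul, hpj, Equiv.swap_apply_right, smul_smul]

/-- Two zero entries in one column give an element fixing an axis. -/
theorem fix_of_two_zeros {ε : Fˣ} (hε : Cir σ (ε : F)) (hε3 : (ε : F) ^ 3 ≠ 1) (hε4 : (ε : F) ^ 4 ≠ 1)
    {g : GL ι F} (hg : g ∈ M) (hgm : ¬ IsMono g) {b k k' : ι} (hkk : k ≠ k')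
    (hk : ((g : Matrix ι ι F) *ᵥ ax b) k = 0) (hk' : ((g : Matrix ι ι F) *ᵥ ax b) k' = 0) : FixAx M := by
  classical
  set d := dg (torPair k k' ε) with hd
  have hdy : ∀ y, (d : Matrix ι ι F) *ᵥ y =
      y + (((ε : F) - 1) * y k) • ax k + (((ε : F)⁻¹ - 1) * y k') • ax k' := fun y => funext fun i => by
    rw [hd, dg_mulVec]
    rcases eq_or_ne i k with rfl | hik
    · simp [torPair, hkk]; ring
    rcases eq_or_ne i k' with rfl | hik'
    · simp [torPair, Ne.symm hkk]; ring
    · simp [torPair, hik, hik']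
  set x := g⁻¹ * d * g with hx
  set r := ((g⁻¹ : GL ι F) : Matrix ι ι F) *ᵥ ax k with hr
  set r' := ((g⁻¹ : GL ι F) : Matrix ι ι F) *ᵥ ax k' with hr'
  have hxy : ∀ y, (x : Matrix ι ι F) *ᵥ y =
      y + (((ε : F) - 1) * ((g : Matrix ι ι F) *ᵥ y) k) • r +
        (((ε : F)⁻¹ - 1) * ((g : Matrix ι ι F) *ᵥ y) k') • r' := fun y => by
    rw [hx, Units.val_mul, Units.val_mul, ← mulVec_mulVec, ← mulVec_mulVec, hdy, mulVec_add, mulVec_add,
      inv_mulVec_mulVec, mulVec_smul, mulVec_smul]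
  have hxM : x ∈ M := M.mul_mem (M.mul_mem (M.inv_mem hg) (hO.torPair_mem hkk hε)) hg
  by_cases hxm : IsMono x
  swap
  · refine ⟨x, hxM, hxm, b, 1, ?_⟩
    rw [hxy, hk, hk', mul_zero, mul_zero, zero_smul, zero_smul, add_zero, add_zero, one_smul]
  have hW : ∀ y, (x : Matrix ι ι F) *ᵥ y - y ∈ Submodule.span F {r, r'} := fun y => by
    rw [hxy, add_assoc, add_sub_cancel_left]
    exact Submodule.add_mem _ (Submodule.smul_mem _ _ (Submodule.subset_span (Or.inl rfl)))
      (Submodule.smul_mem _ _ (Submodule.subset_span (Or.inr rfl)))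
  obtain ⟨hsq | h3, -⟩ := mono_plane hxm hW
  swap
  · exfalso
    have e : (g⁻¹ * d * g) ^ 3 = g⁻¹ * d ^ 3 * g := by simp only [pow_succ, pow_zero, one_mul]; group
    rw [hx, e] at h3
    have h4 : d ^ 3 = 1 := by
      have h5 : d ^ 3 = g * (g⁻¹ * d ^ 3 * g) * g⁻¹ := by group
      rw [h5, h3, mul_one, mul_inv_cancel]
    have h6 := congrArg (fun A : GL ι F => ((A : Matrix ι ι F) *ᵥ ax k) k) h4
    simp only [pow_succ, pow_zero, one_mul, Units.val_mul, ← mulVec_mulVec, hd, dg_mulVec, Units.val_one, one_mulVec] at h6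
    simp [torPair] at h6
    exact hε3 (by linear_combination h6)
  obtain ⟨i, hi⟩ : ∃ i, r i ≠ 0 := by
    by_contra hcon
    push Not at hcon
    exact mulVec_ne_zero g⁻¹ (ax_ne_zero k) (funext hcon)
  choose t ht using fun p => Submodule.mem_span_singleton.1 (hsq p)
  have hxx : (x * x : GL ι F) = g⁻¹ * (d * d) * g := by rw [hx]; group
  have hdd : ∀ (y : ι → F) (_ : ι), ((d * d : GL ι F) : Matrix ι ι F) *ᵥ y =
      fun p => (torPair k k' ε p : F) ^ 2 * y p := by
    intro y _
    funext p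
    rw [Units.val_mul, ← mulVec_mulVec, hd, dg_mulVec, dg_mulVec]; ring
  have hti : t i = (ε : F) ^ 2 := by
    have h1 : ((x * x : GL ι F) : Matrix ι ι F) *ᵥ r = (ε : F) ^ 2 • r := by
      rw [hxx, Units.val_mul (g⁻¹ * (d * d)), Units.val_mul g⁻¹, ← mulVec_mulVec, ← mulVec_mulVec, hr,
        mulVec_inv_mulVec, hdd _ k, ← mulVec_smul]
      congr 1
      funext p
      by_cases hp : p = k
      · subst hp; simp [torPair]
      · simp [hp]
    have h2 := congrFun h1 i
    rw [← Finset.univ_sum_single r, mulVec_sum, Finset.sum_apply, Finset.univ_sum_single r,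
      Finset.sum_eq_single i (fun p _ hp => ?_) (by simp)] at h2
    · rw [show Pi.single i (r i) = r i • ax i by simp [← Pi.single_smul'], mulVec_smul, ← ht] at h2
      simp at h2
      exact mul_left_cancel₀ hi (by linear_combination h2)
    · rw [show Pi.single p (r p) = r p • ax p by simp [← Pi.single_smul'], mulVec_smul, ← ht]
      simp [Ne.symm hp]
  refine fix_of_axis hO hg hgm (a := i) (b := k) (mem_axis_iff.2 fun p hp => ?_)
  have h1 := congrArg (fun z => ((g : Matrix ι ι F) *ᵥ z) p) (ht i)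
  simp only [hxx, hti] at h1
  rw [Units.val_mul (g⁻¹ * (d * d)), Units.val_mul g⁻¹, ← mulVec_mulVec, ← mulVec_mulVec, mulVec_inv_mulVec,
    hdd _ k, mulVec_smul, Pi.smul_apply, smul_eq_mul] at h1
  set z := ((g : Matrix ι ι F) *ᵥ ax i) p
  have hε0 := ε.ne_zero
  have h2 : ((ε : F) ^ 2 - (torPair k k' ε p : F) ^ 2) * z = 0 := by linear_combination h1
  refine (mul_eq_zero.1 h2).resolve_left fun h => ?_
  by_cases hp' : p = k'
  · subst hp'
    simp [torPair, hp] at h
    field_simp at h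
    exact hε4 (by linear_combination h)
  · simp [torPair, hp, hp'] at h
    exact hε4 (by linear_combination ((ε : F) ^ 2 + 1) * h)

end CfsgLib.SUSix91
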