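import Mathlib
import Cfsg.Agent.SUSix91.MonoBase

/-!
Elements of an overgroup of the special monomial unitary group giving an element fixing an axis.
-/

set_option autoImplicit false
set_option linter.unusedSectionVars false

namespace CfsgLib.SUSix91

open Matrix CfsgLib.UnitMono CfsgLib.TransvGL CfsgLib.MonoBasics CfsgLib.UnitCentres CfsgLib.PseudoRefl
  CfsgLib.CircleSums

variable {ι : Type} [Fintype ι] [DecidableEq ι] {F : Type*} [Field F] [Fintype F]
variable {q : ℕ} {σ : F ≃+* F} {M : Subgroup (GL ι F)}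

local notation "ax" i:max => (Pi.single i (1 : F) : ι → F)

/-- The norm of a coordinate. -/
def nrm (σ : F ≃+* F) (u : ι → F) (i : ι) : F := u i * σ (u i)

theorem det_monoGL91 (π : Equiv.Perm ι) (c : ι → Fˣ) :
    (monoGL π c : Matrix ι ι F).det = ((Equiv.Perm.sign π : ℤ) : F) * ∏ i, (c i : F) := by
  have h : (monoGL π c : Matrix ι ι F) = Equiv.Perm.permMatrix F π.symm * Matrix.diagonal fun i => (c i : F) := by
    refine Matrix.ext_of_mulVec_single fun j => funext fun i => ?_
    rw [monoGL_mulVec, ← mulVec_mulVec, Matrix.permMatrix_mulVec, Function.comp_apply, mulVec_diagonal]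
  rw [h, det_mul, det_permutation, det_diagonal, Equiv.Perm.sign_symm]

theorem monoGL_fix {π : Equiv.Perm ι} {c : ι → Fˣ} {u : ι → F} (h : ∀ i, (c i : F) * u i = u (π i)) :
    (monoGL π c : Matrix ι ι F) *ᵥ u = u := funext fun i => by
  rw [monoGL_mulVec, h, Equiv.apply_symm_apply]

variable (hO : Over q σ M)
include hO

theorem col_unit {g : GL ι F} (hg : g ∈ M) (b : ι) :
    sf σ ((g : Matrix ι ι F) *ᵥ ax b) ((g : Matrix ι ι F) *ᵥ ax b) = 1 := by
  rw [hO.iso g hg, sf_ax_self]

theorem not_axis_two {g : GL ι F} (hg : g ∈ M) {a : ι}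
    (hax : ∀ j, (g : Matrix ι ι F) *ᵥ ax a ∉ Submodule.span F {ax j}) :
    ∃ i j, i ≠ j ∧ ((g : Matrix ι ι F) *ᵥ ax a) i ≠ 0 ∧ ((g : Matrix ι ι F) *ᵥ ax a) j ≠ 0 := by
  obtain ⟨i, hi⟩ := supp_nonempty hO.std (col_unit hO hg a)
  have h := hax i
  rw [mem_axis_iff] at h
  push Not at h
  obtain ⟨j, hj, hj0⟩ := h
  exact ⟨i, j, Ne.symm hj, hi, hj0⟩

open scoped Classical in
/-- With all columns of support at most two, a pair of reflections fixes an axis. -/
theorem fix_of_blocks (hn : 5 ≤ Fintype.card ι)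
    (h2 : ∀ g ∈ M, ∀ b : ι, (Finset.univ.filter fun i => ((g : Matrix ι ι F) *ᵥ ax b) i ≠ 0).card ≤ 2)
    {g : GL ι F} (hg : g ∈ M) (hgm : ¬ IsMono g) : FixAx M := by
  classical
  have hS := hO.std
  have hf := hS.isUnitary (ι := ι)
  obtain ⟨b, hb⟩ : ∃ b, ∀ j, (g : Matrix ι ι F) *ᵥ ax b ∉ Submodule.span F {ax j} := by
    by_contra hc; push Not at hc; exact hgm hc
  set u := (g : Matrix ι ι F) *ᵥ ax b with hu
  obtain ⟨i, j, hij, hi, hj⟩ := not_axis_two hO hg hb
  set S := fun g : GL ι F => fun b => Finset.univ.filter fun i => ((g : Matrix ι ι F) *ᵥ ax b) i ≠ 0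
  have hSu : S g b = {i, j} :=
    (Finset.eq_of_subset_of_card_le (fun p hp => by
      rw [Finset.mem_insert, Finset.mem_singleton] at hp
      rcases hp with rfl | rfl <;>
        (simp only [S, Finset.mem_filter, Finset.mem_univ, true_and]; assumption)) (by rw [Finset.card_pair hij]; exact h2 g hg b)).symm
  have hrow : ∀ p c, ((g : Matrix ι ι F) *ᵥ ax c) p ≠ 0 → c ∈ S g⁻¹ p := by
    intro p c h
    simp only [S, Finset.mem_filter, Finset.mem_univ, true_and]
    rw [inv_apply_eq (hO.iso g hg), sf_ax_left]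
    simpa using h
  have h4 : (S g⁻¹ i ∪ S g⁻¹ j).card ≤ 4 :=
    (Finset.card_union_le _ _).trans (by
      have := h2 g⁻¹ (M.inv_mem hg) i; have := h2 g⁻¹ (M.inv_mem hg) j
      simp only [S]; omega)
  obtain ⟨c, -, hc⟩ := Finset.exists_mem_notMem_of_card_lt_card (s := S g⁻¹ i ∪ S g⁻¹ j)
    (t := (Finset.univ : Finset ι)) (by rw [Finset.card_univ]; omega)
  rw [Finset.mem_union, not_or] at hc
  set v := (g : Matrix ι ι F) *ᵥ ax c with hv
  have hvi : v i = 0 := by by_contra h; exact hc.1 (hrow i c h)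
  have hvj : v j = 0 := by by_contra h; exact hc.2 (hrow j c h)
  have hbc : b ≠ c := fun e => hi (by subst e; exact hvi)
  obtain ⟨a, -, ha⟩ := Finset.exists_mem_notMem_of_card_lt_card (s := S g b ∪ S g c)
    (t := (Finset.univ : Finset ι)) (by
      have := Finset.card_union_le (S g b) (S g c)
      have := h2 g hg b; have := h2 g hg c
      rw [Finset.card_univ]; simp only [S] at *; omega)
  simp only [S, Finset.mem_union, Finset.mem_filter, Finset.mem_univ, true_and, not_or, not_not, ← hu, ← hv] at ha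
  have hia : i ≠ a := fun e => hi (e ▸ ha.1)
  obtain ⟨ε0, hε0, hε2⟩ := exists_cir_sq_ne_one hS.card hS.frob
  obtain ⟨z, hz, hz1, hzN⟩ : ∃ z : F, Cir σ z ∧ z ≠ 1 ∧ 1 + (z - 1) * (u i * σ (u i)) ≠ 0 := by
    by_cases h : 1 + (ε0 - 1) * (u i * σ (u i)) = 0
    · refine ⟨ε0⁻¹, hε0.inv, fun e => hε2 (by rw [inv_eq_one.1 e, one_pow]), fun h' => hε2 ?_⟩
      have e : (ε0 - ε0⁻¹) * (u i * σ (u i)) = 0 := by linear_combination h - h'
      have hN : u i * σ (u i) ≠ 0 := mul_ne_zero hi (by intro h; exact hi ((map_eq_zero σ).1 h))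
      have e2 : ε0 = ε0⁻¹ := sub_eq_zero.1 ((mul_eq_zero.1 e).resolve_right hN)
      calc ε0 ^ 2 = ε0 * ε0 := sq _
        _ = ε0 * ε0⁻¹ := by rw [← e2]
        _ = 1 := mul_inv_cancel₀ hε0.ne_zero
    · exact ⟨ε0, hε0, fun e => hε2 (by rw [e, one_pow]), h⟩
  set ε : Fˣ := Units.mk0 z hz.ne_zero
  set x := g * dg (torPair b c ε) * g⁻¹ with hx
  have hxy : ∀ y, (x : Matrix ι ι F) *ᵥ y =
      y + ((z - 1) * sf σ y u) • u + ((z⁻¹ - 1) * sf σ y v) • v := fun y => by
    have hdy : ∀ y, (dg (torPair b c ε) : Matrix ι ι F) *ᵥ y =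
        y + ((z - 1) * y b) • ax b + ((z⁻¹ - 1) * y c) • ax c := fun y => funext fun p => by
      rw [dg_mulVec]
      rcases eq_or_ne p b with rfl | hpb
      · simp [torPair, hbc, ε]; ring
      rcases eq_or_ne p c with rfl | hpc
      · simp [torPair, Ne.symm hbc, ε]; ring
      · simp [torPair, hpb, hpc]
    rw [hx, Units.val_mul, Units.val_mul, ← mulVec_mulVec, ← mulVec_mulVec, hdy, mulVec_add, mulVec_add,
      mulVec_inv_mulVec, mulVec_smul, mulVec_smul, ← hu, ← hv, inv_apply_eq (hO.iso g hg),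
      inv_apply_eq (hO.iso g hg)]
  refine ⟨x, M.mul_mem (M.mul_mem hg (hO.torPair_mem hbc hz)) (M.inv_mem hg), fun hm => ?_, a, 1, ?_⟩
  · obtain ⟨p, hp⟩ := hm i
    rw [hxy, mem_axis_iff, sf_ax_left, sf_ax_left, hvi, map_zero, mul_zero, zero_smul, add_zero] at hp
    rcases eq_or_ne p i with rfl | hpi
    · have := hp j (Ne.symm hij)
      simp [Ne.symm hij, sub_ne_zero.2 hz1] at this
      rcases this with h | h
      · exact hi h
      · exact hj h
    · have := hp i (Ne.symm hpi)
      simp at this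
      exact hzN (by linear_combination this)
  · rw [hxy, sf_ax_left, sf_ax_left, ha.1, ha.2, map_zero, mul_zero, mul_zero, zero_smul, zero_smul, add_zero,
      add_zero, one_smul]

/-- A zero and two equal norms in a column, in odd characteristic. -/
theorem fix_of_zero_pair (h2 : (2 : F) ≠ 0) (hn : Fintype.card ι = 6) {ε : Fˣ} (hε : Cir σ (ε : F))
    (hε3 : (ε : F) ^ 3 ≠ 1) (hε4 : (ε : F) ^ 4 ≠ 1)
    {g : GL ι F} (hg : g ∈ M) (hgm : ¬ IsMono g) {b k l m : ι} (hlk : l ≠ k) (hmk : m ≠ k) (hlm : l ≠ m)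
    (hk : ((g : Matrix ι ι F) *ᵥ ax b) k = 0) (hl : ((g : Matrix ι ι F) *ᵥ ax b) l ≠ 0)
    (hN : nrm σ ((g : Matrix ι ι F) *ᵥ ax b) l = nrm σ ((g : Matrix ι ι F) *ᵥ ax b) m) : FixAx M := by
  classical
  set u := (g : Matrix ι ι F) *ᵥ ax b with hu
  unfold nrm at hN
  have hNl : u l * σ (u l) ≠ 0 := mul_ne_zero hl (by simpa using hl)
  have hm : u m ≠ 0 := fun e => hNl (by rw [hN, e, zero_mul])
  set s : Fˣ := Units.mk0 (u m / u l) (div_ne_zero hm hl)
  set c : ι → Fˣ := fun i => if i = l then s else if i = m then s⁻¹ else if i = k then -1 else 1 with hc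
  have hsc : Cir σ (s : F) := by
    show u m / u l * σ (u m / u l) = 1
    have : σ (u l) ≠ 0 := by simpa using hl
    rw [map_div₀, div_mul_div_comm, ← hN, div_self hNl]
  have hcc : ∀ i, Cir σ (c i : F) := fun i => by
    simp only [hc]
    split_ifs
    · exact hsc
    · rw [Units.val_inv_eq_inv_val]; exact hsc.inv
    · rw [Units.val_neg, Units.val_one]; exact cir_neg_one σ
    · exact cir_one σ
  set h := monoGL (Equiv.swap l m) c with hh
  have hhM : h ∈ M := by
    refine hO.mono_mem _ (iso_monoGL _ _ hcc) ?_ (isMono_monoGL _ _)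
    rw [PseudoRefl.mem_specialLinear_iff, det_monoGL91, Equiv.Perm.sign_swap hlm, ← Units.coe_prod]
    have e : ∏ i, c i = -1 := by
      rw [← Finset.prod_subset (Finset.subset_univ ({l, m, k} : Finset ι)) fun i _ hi => by
          simp only [Finset.mem_insert, Finset.mem_singleton, not_or] at hi
          simp [hc, hi.1, hi.2.1, hi.2.2],
        Finset.prod_insert (by simp [hlm, hlk]), Finset.prod_pair hmk]
      simp [hc, Ne.symm hlm, Ne.symm hlk, Ne.symm hmk]
    rw [e]; simp
  have hfix : (h : Matrix ι ι F) *ᵥ u = u := monoGL_fix fun i => by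
    rcases eq_or_ne i l with rfl | hil
    · simp [hc, s]; field_simp
    rcases eq_or_ne i m with rfl | him
    · simp [hc, hil, s]; field_simp
    rcases eq_or_ne i k with rfl | hik
    · simp [hc, hil, him, Equiv.swap_apply_of_ne_of_ne hil him, hk]
    · simp [hc, hil, him, hik, Equiv.swap_apply_of_ne_of_ne hil him]
  set y : ι → F := ax l - (s : F) • ax m
  have hhy : ∀ x, (h : Matrix ι ι F) *ᵥ x =
      x + (-(x l - (s : F)⁻¹ * x m)) • y + (-2 * x k) • ax k := by
    intro x
    funext i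
    rw [hh, monoGL_mulVec, Equiv.symm_swap]
    rcases eq_or_ne i l with rfl | hil
    · simp [hc, y, Ne.symm hlm, hlm, hlk]
    rcases eq_or_ne i m with rfl | him
    · simp [hc, y, hil, hmk]
      field_simp
      ring
    rcases eq_or_ne i k with rfl | hik
    · simp [hc, y, hil, him, Equiv.swap_apply_of_ne_of_ne hil him]; ring
    · simp [hc, y, hil, him, hik, Equiv.swap_apply_of_ne_of_ne hil him]
  set x := g⁻¹ * h * g with hx
  have hxM : x ∈ M := M.mul_mem (M.mul_mem (M.inv_mem hg) hhM) hg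
  by_cases hxm : IsMono x
  swap
  · exact ⟨x, hxM, hxm, b, 1, by rw [hx, Units.val_mul, Units.val_mul, ← mulVec_mulVec, ← mulVec_mulVec,
      ← hu, hfix, hu, inv_mulVec_mulVec, one_smul]⟩
  obtain ⟨-, T, hT, hTfix⟩ := mono_plane hxm (r := ((g⁻¹ : GL ι F) : Matrix ι ι F) *ᵥ y)
    (r' := ((g⁻¹ : GL ι F) : Matrix ι ι F) *ᵥ ax k) fun z => by
      rw [hx, Units.val_mul, Units.val_mul, ← mulVec_mulVec, ← mulVec_mulVec, hhy, mulVec_add, mulVec_add,
        inv_mulVec_mulVec, mulVec_smul, mulVec_smul, add_assoc, add_sub_cancel_left]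
      exact Submodule.add_mem _ (Submodule.smul_mem _ _ (Submodule.subset_span (Or.inl rfl)))
        (Submodule.smul_mem _ _ (Submodule.subset_span (Or.inr rfl)))
  set r := ((g⁻¹ : GL ι F) : Matrix ι ι F) *ᵥ ax k with hr
  have hxr : (x : Matrix ι ι F) *ᵥ r = -r := by
    have e : (h : Matrix ι ι F) *ᵥ ax k = -ax k := by
      rw [hhy, Pi.single_eq_of_ne hlk, Pi.single_eq_of_ne hmk, Pi.single_eq_same, mul_zero, sub_zero,
        neg_zero, zero_smul]
      module
    rw [hx, Units.val_mul, Units.val_mul, ← mulVec_mulVec, ← mulVec_mulVec, hr, mulVec_inv_mulVec, e, mulVec_neg]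
  obtain ⟨p, -, hp⟩ := Finset.exists_mem_notMem_of_card_lt_card (s := T) (t := (Finset.univ : Finset ι))
    (by rw [Finset.card_univ]; omega)
  obtain ⟨p', -, hp'⟩ := Finset.exists_mem_notMem_of_card_lt_card (s := insert p T) (t := (Finset.univ : Finset ι))
    (by rw [Finset.card_univ, Finset.card_insert_of_notMem hp]; omega)
  rw [Finset.mem_insert, not_or] at hp'
  have hzero : ∀ p, p ∉ T → r p = 0 := fun p hp => by
    have := hTfix r p hp
    rw [hxr, Pi.neg_apply] at this
    exact (mul_eq_zero.1 (show (2 : F) * r p = 0 by linear_combination -this)).resolve_left h2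
  exact fix_of_two_zeros hO hε hε3 hε4 (M.inv_mem hg) (fun e => hgm (by simpa using e.inv)) (Ne.symm hp'.1)
    (hzero p hp) (hzero p' hp'.2)

/-- A column with all norms equal: its stabiliser does not fit into that of an axis. -/
theorem fix_of_constant (hn : Fintype.card ι = 6) {g : GL ι F} (hg : g ∈ M) {b : ι}
    (hne : ∀ i, ((g : Matrix ι ι F) *ᵥ ax b) i ≠ 0)
    (hN : ∀ i j, nrm σ ((g : Matrix ι ι F) *ᵥ ax b) i = nrm σ ((g : Matrix ι ι F) *ᵥ ax b) j) : FixAx M := by
  classical
  set u := (g : Matrix ι ι F) *ᵥ ax b with hu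
  by_contra hno
  let c : Equiv.Perm ι → ι → Fˣ := fun π i => Units.mk0 (u (π i) / u i) (div_ne_zero (hne _) (hne _))
  let Θ : alternatingGroup ι →* GL ι F :=
    { toFun := fun π => monoGL (π : Equiv.Perm ι) (c π)
      map_one' := ext_mulVec fun x => funext fun i => by
        rw [monoGL_mulVec, Units.val_one, one_mulVec]
        simp only [c, Units.val_mk0, OneMemClass.coe_one, Equiv.Perm.one_def, Equiv.refl_symm, Equiv.refl_apply]
        rw [div_self (hne i), one_mul]
      map_mul' := fun π ρ => ext_mulVec fun x => funext fun i => by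
        rw [Units.val_mul, ← mulVec_mulVec, monoGL_mulVec, monoGL_mulVec, monoGL_mulVec]
        simp only [c, Subgroup.coe_mul, Units.val_mk0, Equiv.Perm.mul_def, Equiv.symm_trans_apply,
          Equiv.trans_apply, Equiv.apply_symm_apply]
        have := hne ((π : Equiv.Perm ι).symm i)
        have := hne ((ρ : Equiv.Perm ι).symm ((π : Equiv.Perm ι).symm i))
        field_simp }
  have hΘM : ∀ π, Θ π ∈ M := fun π => by
    refine hO.mono_mem _ (iso_monoGL _ _ fun i => ?_) ?_ (isMono_monoGL _ _)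
    · have hσ : σ (u i) ≠ 0 := by simpa using hne i
      show u ((π : Equiv.Perm ι) i) / u i * σ (u ((π : Equiv.Perm ι) i) / u i) = 1
      rw [map_div₀, div_mul_div_comm, show u ((π : Equiv.Perm ι) i) * σ (u ((π : Equiv.Perm ι) i)) =
        u i * σ (u i) from hN _ _, div_self (mul_ne_zero (hne i) hσ)]
    · rw [PseudoRefl.mem_specialLinear_iff]
      show (monoGL (π : Equiv.Perm ι) (c π) : Matrix ι ι F).det = 1
      rw [det_monoGL91, Equiv.Perm.mem_alternatingGroup.1 π.2]
      simp only [c, Units.val_mk0, Units.val_one, Int.cast_one, one_mul]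
      rw [Finset.prod_div_distrib, Equiv.prod_comp (π : Equiv.Perm ι) u,
        div_self (Finset.prod_ne_zero_iff.2 fun i _ => hne i)]
  have hfixu : ∀ π, (Θ π : Matrix ι ι F) *ᵥ u = u := fun π => monoGL_fix fun i => by
    simp only [c, Units.val_mk0]
    exact div_mul_cancel₀ _ (hne i)
  let X : alternatingGroup ι →* GL ι F :=
    { toFun := fun π => g⁻¹ * Θ π * g
      map_one' := by rw [map_one, mul_one, inv_mul_cancel]
      map_mul' := fun π ρ => by rw [map_mul]; group }
  have hXb : ∀ π, (X π : Matrix ι ι F) *ᵥ ax b = ax b := fun π => by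
    show ((g⁻¹ * Θ π * g : GL ι F) : Matrix ι ι F) *ᵥ ax b = ax b
    rw [Units.val_mul, Units.val_mul, ← mulVec_mulVec, ← mulVec_mulVec, ← hu, hfixu, hu, inv_mulVec_mulVec]
  have hXm : ∀ π, IsMono (X π) := fun π => by
    by_contra h
    exact hno ⟨X π, M.mul_mem (M.mul_mem (M.inv_mem hg) (hΘM π)) hg, h, b, 1, by rw [hXb, one_smul]⟩
  choose f hf using hXm
  have huniq : ∀ π j i, (X π : Matrix ι ι F) *ᵥ ax j ∈ Submodule.span F {ax i} → i = f π j := by
    intro π j i h
    by_contra hne'
    have h0 := mem_axis_iff.1 h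
    have h1 := mem_axis_iff.1 (hf π j)
    refine mulVec_ne_zero (X π) (ax_ne_zero j) (funext fun p => ?_)
    by_cases hp : p = i
    · exact h1 p (hp ▸ hne')
    · exact h0 p hp
  let φ : alternatingGroup ι →* Equiv.Perm ι :=
    { toFun := fun π => Equiv.ofBijective (f π) (Finite.injective_iff_bijective.1 (mono_index_injective (hf π)))
      map_one' := Equiv.ext fun j => by
        rw [Equiv.ofBijective_apply, Equiv.Perm.one_apply]
        refine (huniq 1 j j ?_).symm
        rw [map_one, Units.val_one, one_mulVec]; exact Submodule.mem_span_singleton_self _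
      map_mul' := fun π ρ => Equiv.ext fun j => by
        rw [Equiv.Perm.mul_apply, Equiv.ofBijective_apply, Equiv.ofBijective_apply, Equiv.ofBijective_apply]
        refine (huniq (π * ρ) j _ ?_).symm
        obtain ⟨s, hs⟩ := Submodule.mem_span_singleton.1 (hf ρ j)
        rw [map_mul, Units.val_mul, ← mulVec_mulVec, ← hs, mulVec_smul]
        exact Submodule.smul_mem _ _ (hf π _) }
  have hφb : ∀ π, φ π b = b := fun π =>
    (huniq π b b (by rw [hXb]; exact Submodule.mem_span_singleton_self _)).symm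
  haveI : Nontrivial ι := Fintype.one_lt_card_iff_nontrivial.1 (by omega)
  haveI : IsSimpleGroup (alternatingGroup ι) := alternatingGroup.isSimpleGroup (by
    first | omega | (rw [Nat.card_eq_fintype_card]; omega))
  have hker : φ.ker ≠ ⊥ := by
    intro h
    have hinj := (MonoidHom.ker_eq_bot_iff φ).1 h
    let ψ : alternatingGroup ι → Equiv.Perm {i : ι // i ≠ b} := fun π =>
      (φ π).subtypePerm fun i => by
        constructor
        · intro hi e; exact hi (by rw [e, hφb])
        · intro hi e; exact hi ((φ π).injective (e.trans (hφb π).symm))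
    have hψ : Function.Injective ψ := fun π ρ e => hinj (Equiv.ext fun i => by
      by_cases hi : i = b
      · rw [hi, hφb, hφb]
      · exact congrArg (fun t : Equiv.Perm {i : ι // i ≠ b} => ((t ⟨i, hi⟩ : {i : ι // i ≠ b}) : ι)) e)
    have h1 := Nat.card_le_card_of_injective ψ hψ
    have h2 : Nat.card (Equiv.Perm {i : ι // i ≠ b}) = 120 := by
      rw [Nat.card_perm, Nat.card_eq_fintype_card, Fintype.card_subtype_compl, hn, Fintype.card_subtype_eq]
      rfl
    have h3 : 2 * Nat.card (alternatingGroup ι) = 720 := by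
      rw [two_mul_nat_card_alternatingGroup, Nat.card_perm, Nat.card_eq_fintype_card, hn]
      rfl
    omega
  have htop : φ.ker = ⊤ := ((MonoidHom.normal_ker φ).eq_bot_or_eq_top).resolve_left hker
  have hdiag : ∀ π j, (X π : Matrix ι ι F) *ᵥ ax j ∈ Submodule.span F {ax j} := fun π j => by
    have h1 : φ π = 1 := MonoidHom.mem_ker.1 (htop ▸ Subgroup.mem_top π)
    have h2 : f π j = j := congrArg (fun t : Equiv.Perm ι => t j) h1
    have := hf π j
    rwa [h2] at this
  have hXinj : Function.Injective X := fun π ρ e => by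
    have e' : Θ π = Θ ρ := mul_left_cancel (mul_right_cancel e)
    refine Subtype.ext (Equiv.ext fun j => ?_)
    have h1 := congrArg (fun A : GL ι F => (A : Matrix ι ι F) *ᵥ ax j) e'
    simp only [Θ, MonoidHom.coe_mk, OneHom.coe_mk, monoGL_mulVec_ax] at h1
    by_contra hne'
    have h2 := congrFun h1 ((π : Equiv.Perm ι) j)
    simp [hne', c, hne] at h2
  have hcomm : ∀ π ρ : alternatingGroup ι, π * ρ = ρ * π := fun π ρ => hXinj (by
    rw [map_mul, map_mul]
    refine Units.ext (Matrix.ext_of_mulVec_single fun j => ?_)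
    obtain ⟨s, hs⟩ := Submodule.mem_span_singleton.1 (hdiag π j)
    obtain ⟨t, ht⟩ := Submodule.mem_span_singleton.1 (hdiag ρ j)
    rw [Units.val_mul, Units.val_mul, ← mulVec_mulVec, ← mulVec_mulVec, ← hs, ← ht, mulVec_smul, mulVec_smul,
      ← hs, ← ht, smul_comm])
  obtain ⟨e⟩ : Nonempty (Fin 6 ≃ ι) := ⟨(Fintype.equivFinOfCardEq hn).symm⟩
  have h1 := hcomm
    ⟨e.permCongr (Equiv.swap 0 1 * Equiv.swap 1 2), by
      rw [Equiv.Perm.mem_alternatingGroup, Equiv.Perm.sign_permCongr]; decide⟩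
    ⟨e.permCongr (Equiv.swap 1 2 * Equiv.swap 2 3), by
      rw [Equiv.Perm.mem_alternatingGroup, Equiv.Perm.sign_permCongr]; decide⟩
  have h2 := congrArg (fun t : alternatingGroup ι => e.symm ((t : Equiv.Perm ι) (e 1))) h1
  simp [Equiv.permCongr_apply] at h2
  exact absurd h2 (by decide)

end CfsgLib.SUSix91
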