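import Mathlib

/-!
Finite tables: norm patterns of a column in six coordinates for the fields with five and eleven elements.
-/

set_option autoImplicit false

namespace CfsgLib.SUSix91

/-- Bounded search along a step map. -/
def normClosure (good : (Fin 6 → ℕ) → Bool) (step : (Fin 6 → ℕ) → Fin 6 → Fin 6 → ℕ) :
    ℕ → (Fin 6 → ℕ) → Bool
  | 0, n => good n
  | f + 1, n => good n || decide (∃ i, normClosure good step f (step n i) = true)

theorem normClosure_sound {good : (Fin 6 → ℕ) → Bool} {step : (Fin 6 → ℕ) → Fin 6 → Fin 6 → ℕ}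
    {P : (Fin 6 → ℕ) → Prop} {G : Prop} (hgood : ∀ n, P n → good n = true → G)
    (hstep : ∀ n, P n → good n = false → ∀ i, P (step n i) ∨ G) :
    ∀ f n, normClosure good step f n = true → P n → G := by
  intro f
  induction f with
  | zero => exact fun n h hP => hgood n hP h
  | succ f IH =>
    intro n h hP
    cases hg : good n with
    | true => exact hgood n hP hg
    | false =>
      simp only [normClosure, hg, Bool.false_or, decide_eq_true_eq] at h
      obtain ⟨i, hi⟩ := h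
      exact (hstep n hP hg i).elim (IH _ hi) id

/-- Final patterns modulo eleven. -/
def good11 (n : Fin 6 → ℕ) : Bool :=
  decide (∃ i, n i % 11 = 6) || decide (∃ i j : Fin 6, i ≠ j ∧ (n i + n j) % 11 = 9)

/-- The step modulo eleven. -/
def step11 (n : Fin 6 → ℕ) (i j : Fin 6) : ℕ :=
  if j = i then (4 * n i * n i + 7 * n i + 1) % 11 else 4 * n i * n j % 11

/-- Final patterns modulo five. -/
def good5 (n : Fin 6 → ℕ) : Bool :=
  decide (∃ i, n i % 5 = 3) || decide (∀ i, n i = n 0)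

/-- The step modulo five. -/
def step5 (n : Fin 6 → ℕ) (i j : Fin 6) : ℕ :=
  if j = i then (4 * n i * n i + n i + 1) % 5 else 4 * n i * n j % 5

theorem table11 : ∀ a : Fin 11, 1 ≤ a.val → ∀ b : Fin 11, a ≤ b → ∀ c : Fin 11, b ≤ c → ∀ d : Fin 11, c ≤ d →
    ∀ e : Fin 11, d ≤ e → ∀ f : Fin 11, e ≤ f → (a.val + b + c + d + e + f) % 11 = 1 →
    normClosure good11 step11 4 ![a.val, b.val, c.val, d.val, e.val, f.val] = true := by
  decide +kernel

theorem table5 : ∀ a : Fin 5, 1 ≤ a.val → ∀ b : Fin 5, a ≤ b → ∀ c : Fin 5, b ≤ c → ∀ d : Fin 5, c ≤ d →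
    ∀ e : Fin 5, d ≤ e → ∀ f : Fin 5, e ≤ f → (a.val + b + c + d + e + f) % 5 = 1 →
    normClosure good5 step5 4 ![a.val, b.val, c.val, d.val, e.val, f.val] = true := by
  decide +kernel

/-- A table over sorted patterns covers some ordering of every pattern. -/
theorem exists_sorted_closure {ι : Type} [Fintype ι] (hn : Fintype.card ι = 6) {p : ℕ}
    {good : (Fin 6 → ℕ) → Bool} {step : (Fin 6 → ℕ) → Fin 6 → Fin 6 → ℕ} {k : ℕ}
    (ht : ∀ a : Fin p, 1 ≤ a.val → ∀ b : Fin p, a ≤ b → ∀ c : Fin p, b ≤ c → ∀ d : Fin p, c ≤ d →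
      ∀ e : Fin p, d ≤ e → ∀ f : Fin p, e ≤ f → (a.val + b + c + d + e + f) % p = 1 →
      normClosure good step k ![a.val, b.val, c.val, d.val, e.val, f.val] = true)
    (N : ι → ℕ) (h1 : ∀ i, 1 ≤ N i) (hp : ∀ i, N i < p) (hs : (∑ i, N i) % p = 1) :
    ∃ e : Fin 6 ≃ ι, normClosure good step k (N ∘ e) = true := by
  classical
  let e₀ : Fin 6 ≃ ι := (Fintype.equivFinOfCardEq hn).symm
  let e : Fin 6 ≃ ι := (Tuple.sort (N ∘ e₀)).trans e₀
  have hm : Monotone (N ∘ e) := Tuple.monotone_sort (N ∘ e₀)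
  refine ⟨e, ?_⟩
  have hv : N ∘ e = ![N (e 0), N (e 1), N (e 2), N (e 3), N (e 4), N (e 5)] := by
    funext i; fin_cases i <;> rfl
  rw [hv]
  refine ht ⟨_, hp _⟩ (h1 _) ⟨_, hp _⟩ (hm (by decide)) ⟨_, hp _⟩ (hm (by decide)) ⟨_, hp _⟩
    (hm (by decide)) ⟨_, hp _⟩ (hm (by decide)) ⟨_, hp _⟩ (hm (by decide)) ?_
  rw [← hs, ← e.sum_comp N, Fin.sum_univ_six]

end CfsgLib.SUSix91
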